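import Groth.Agent.Lib.DerivedOX.AffineKProj
import Groth.Agent.Lib.DerivedOX.OpenSupport
import Groth.Agent.Lib.DerivedOX.TildeEquiv
import Groth.Agent.Lib.Perfect.Triangle
import Mathlib.CategoryTheory.Triangulated.TStructure.TruncLEGT

/-!
# Maps from perfect complexes on an affine scheme
-/

set_option autoImplicit false
set_option linter.unusedSectionVars false
set_option linter.style.haveILetI false

universe w v u

open CategoryTheory Limits AlgebraicGeometry DerivedCategory

attribute [local instance] HasDerivedCategory.standard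

namespace Groth.Agent.Lib.PerfVanish.Affine

section Abelian

variable {A : Type u} [Category.{v} A] [Abelian A] [HasDerivedCategory.{w} A]

/-- Maps from a bounded complex of projectives to an object without cohomology in its range vanish. -/
theorem eq_zero_of_projective (P : CochainComplex A ℤ) (a b : ℤ) (hab : a ≤ b)
    [P.IsStrictlyGE a] [P.IsStrictlyLE b] (hP : ∀ i, Projective (P.X i)) (L : DerivedCategory A)
    (hL : ∀ i, a ≤ i → i ≤ b → IsZero ((homologyFunctor A i).obj L))
    (φ : DerivedCategory.Q.obj P ⟶ L) : φ = 0 := by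
  let t : Triangulated.TStructure (DerivedCategory A) := TStructure.t
  let T := (t.triangleLEGE (a - 1) a (by omega)).obj L
  have hT : T ∈ distTriang (DerivedCategory A) := t.triangleLEGE_distinguished (a - 1) a (by omega) L
  haveI h1 : DerivedCategory.IsLE T.obj₁ (a - 1) :=
    inferInstanceAs (t.IsLE ((t.truncLE (a - 1)).obj L) (a - 1))
  haveI h3 : DerivedCategory.IsGE T.obj₃ (b + 1) := by
    rw [DerivedCategory.isGE_iff]
    intro i hi
    haveI hge : DerivedCategory.IsGE T.obj₃ a := inferInstanceAs (t.IsGE ((t.truncGE a).obj L) a)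
    by_cases hia : i < a
    · exact isZero_of_isGE T.obj₃ a i hia
    · haveI := DerCat.TStruct.isIso_homologyMap_mor₂ T hT (a - 1) i (by omega)
      exact (hL i (by omega) (by omega)).of_iso (asIso ((homologyFunctor A i).map T.mor₂)).symm
  haveI : DerivedCategory.IsLE (DerivedCategory.Q.obj P) b := inferInstance
  have hzero : φ ≫ T.mor₂ = 0 := t.zero_of_isLE_of_isGE _ b (b + 1) (by omega)
    (inferInstanceAs (DerivedCategory.IsLE (DerivedCategory.Q.obj P) b)) h3
  obtain ⟨ψ, hψ⟩ := Pretriangulated.Triangle.coyoneda_exact₂ T hT φ hzero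
  obtain ⟨M, hM, ⟨e⟩⟩ := exists_iso_Q_obj_of_isLE T.obj₁ (a - 1)
  haveI := hM
  haveI : P.IsKProjective := CochainComplex.isKProjective_of_projective _ b
  let q := quotientCompQhIso A
  obtain ⟨g, hg⟩ := (CochainComplex.IsKProjective.Qh_map_bijective P _).surjective
    (q.hom.app P ≫ ψ ≫ e.hom ≫ q.inv.app M)
  obtain ⟨f, rfl⟩ := (HomotopyCategory.quotient A _).map_surjective g
  have hf : f = 0 := HomologicalComplex.hom_ext _ _ fun i => by
    by_cases hi : i < a
    · exact (P.isZero_of_isStrictlyGE a i hi).eq_of_src _ _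
    · exact (M.isZero_of_isStrictlyLE (a - 1) i (by omega)).eq_of_tgt _ _
  rw [hf, Functor.map_zero, Functor.map_zero] at hg
  have h0 : q.hom.app P ≫ (ψ ≫ e.hom) ≫ q.inv.app M = q.hom.app P ≫ 0 ≫ q.inv.app M := by
    rw [zero_comp, comp_zero, Category.assoc]
    exact hg.symm
  have h0' := (cancel_mono (q.inv.app M)).1 ((cancel_epi (q.hom.app P)).1 h0)
  rw [hψ, (cancel_mono e.hom).1 (h0'.trans zero_comp.symm), zero_comp]
  rfl

end Abelian

open Groth.Agent.Lib.Perfect.Basic Groth.Agent.Lib.DerivedOX Groth.Agent.Lib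

section Spec

open TildeEquiv

variable (R : CommRingCat.{u}) [PreservesFiniteLimits (tilde.functor R)]

/-- Cohomology of a tilde. -/
noncomputable def homologyTildeIso (M : DerivedCategory (ModuleCat.{u} R)) (i : ℤ) :
    DCoh.HD ((DCoh.tildeD R).obj M) i ≅ tilde ((homologyFunctor _ i).obj M) :=
  let e := DerivedCategory.Q.objObjPreimageIso M
  (homologyFunctor _ i).mapIso ((DCoh.tildeD R).mapIso e.symm ≪≫
      (TildeEquiv.F R).mapDerivedCategoryFactors.app _) ≪≫
    (homologyFunctorFactors _ i).app _ ≪≫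
    ((DerivedCategory.Q.objPreimage M).sc i).mapHomologyIso (TildeEquiv.F R) ≪≫
    (TildeEquiv.F R).mapIso
      (((homologyFunctorFactors _ i).app _).symm ≪≫ (homologyFunctor _ i).mapIso e)

theorem eq_zero_spec (E : CochainComplex (Spec (CommRingCat.of R)).Modules ℤ) (a b : ℤ) (hab : a ≤ b)
    (hEv : ∀ i, i < a ∨ b < i → IsZero (E.X i)) (hE : ∀ i, FlatMod.IsFinLocFree (E.X i))
    (L : DCoh.D (Spec (CommRingCat.of R))) (hL : DCoh.IsQCohD L)
    (hv : ∀ i, a ≤ i → i ≤ b → IsZero (DCoh.HD L i))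
    (φ : DerivedCategory.Q.obj E ⟶ L) : φ = 0 := by
  haveI := TildeEquiv.full R
  haveI := TildeEquiv.faithful R
  haveI := AffineKProj.isIso_counit R fun i => TensorMod.QCohInv.isQCoh_of_isFinLocFree (hE i)
  let GC := (G R).mapHomologicalComplex (ComplexShape.up ℤ)
  let FC := (TildeEquiv.F R).mapHomologicalComplex (ComplexShape.up ℤ)
  let eE : FC.obj (GC.obj E) ≅ E := asIso ((adjC R).counit.app E)
  have hproj : ∀ i, Projective ((GC.obj E).X i) := fun i => by
    have := (S12451.result (R := R) ((G R).obj (E.X i))).1 (TensorMod.LocFree.of_iso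
      ((HomologicalComplex.eval _ _ i).mapIso eE).symm (hE i))
    haveI := this.2
    exact ((G R).obj (E.X i)).projective_of_categoryTheory_projective
  haveI : CochainComplex.IsStrictlyLE (GC.obj E) b :=
    (CochainComplex.isStrictlyLE_iff (GC.obj E) b).2 fun i hi => (G R).map_isZero (hEv i (Or.inr hi))
  haveI : CochainComplex.IsStrictlyGE (GC.obj E) a :=
    (CochainComplex.isStrictlyGE_iff (GC.obj E) a).2 fun i hi => (G R).map_isZero (hEv i (Or.inl hi))
  obtain ⟨M, ⟨eM⟩⟩ := TildeEquiv.exists_preimage R L hL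
  let eQ : (DCoh.tildeD R).obj (DerivedCategory.Q.obj (GC.obj E)) ≅ DerivedCategory.Q.obj E :=
    (TildeEquiv.F R).mapDerivedCategoryFactors.app (GC.obj E) ≪≫ DerivedCategory.Q.mapIso eE
  obtain ⟨β, hβ⟩ := (DCoh.tildeD R).map_surjective (eQ.hom ≫ φ ≫ eM.inv)
  have hβ0 : β = 0 := eq_zero_of_projective (GC.obj E) a b hab hproj M (fun i h1 h2 => by
    have h := IsZero.of_iso (hv i h1 h2)
      ((homologyTildeIso R M i).symm ≪≫ (homologyFunctor _ i).mapIso eM)
    rw [IsZero.iff_id_eq_zero] at h ⊢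
    exact (tilde.functor R).map_injective (by
      rw [CategoryTheory.Functor.map_id, Functor.map_zero]; exact h)) β
  rw [hβ0, Functor.map_zero] at hβ
  rw [← cancel_epi eQ.hom, ← cancel_mono eM.inv, Category.assoc, ← hβ]
  simp

end Spec

/-- Restriction along an isomorphism is faithful. -/
theorem faithful_RD {X U : Scheme.{u}} (j : U ⟶ X) (k : X ⟶ U) [IsOpenImmersion j] [IsOpenImmersion k]
    (h : k ≫ j = 𝟙 X) : (RD j).Faithful := by
  let θ := AffineKProj.backIso j k h
  let Θ : DerivedCategory.Q ⋙ RD j ⋙ RD k ≅ DerivedCategory.Q :=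
    (Functor.associator _ _ _).symm ≪≫
      Functor.isoWhiskerRight (Scheme.Modules.restrictFunctor j).mapDerivedCategoryFactors _ ≪≫
      Functor.associator _ _ _ ≪≫
      Functor.isoWhiskerLeft _ (Scheme.Modules.restrictFunctor k).mapDerivedCategoryFactors ≪≫
      (Functor.associator _ _ _).symm ≪≫ Functor.isoWhiskerRight θ _ ≪≫ Functor.leftUnitor _
  letI : Localization.Lifting DerivedCategory.Q
      (HomologicalComplex.quasiIso X.Modules (ComplexShape.up ℤ))
      (DerivedCategory.Q ⋙ RD j ⋙ RD k) (RD j ⋙ RD k) := ⟨Iso.refl _⟩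
  letI : Localization.Lifting DerivedCategory.Q
      (HomologicalComplex.quasiIso X.Modules (ComplexShape.up ℤ))
      DerivedCategory.Q (𝟭 (DCoh.D X)) := ⟨Functor.rightUnitor _⟩
  let hid : RD j ⋙ RD k ≅ 𝟭 (DCoh.D X) := Localization.liftNatIso DerivedCategory.Q
    (HomologicalComplex.quasiIso X.Modules (ComplexShape.up ℤ)) _ _ _ _ Θ
  haveI : (RD j ⋙ RD k).Faithful := Functor.Faithful.of_iso hid.symm
  exact Functor.Faithful.of_comp (RD j) (RD k)

/-- Restriction preserves quasi-coherence of cohomology. -/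
theorem isQCohD_RD {X U : Scheme.{u}} (j : U ⟶ X) [IsOpenImmersion j] {L : DCoh.D X}
    (hL : DCoh.IsQCohD L) : DCoh.IsQCohD ((RD j).obj L) := fun i => by
  haveI : (DCoh.HD L i).IsQuasicoherent := hL i
  exact ObjectProperty.prop_of_iso (SheafOfModules.isQuasicoherent U.ringCatSheaf)
    (Perfect.Coherent.homologyIso j L i).symm
    (inferInstanceAs (((Scheme.Modules.restrictFunctor j).obj (DCoh.HD L i)).IsQuasicoherent))

theorem isZero_HD_RD {X U : Scheme.{u}} (j : U ⟶ X) [IsOpenImmersion j] {L : DCoh.D X} {i : ℤ}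
    (h : IsZero (DCoh.HD L i)) : IsZero (DCoh.HD ((RD j).obj L) i) :=
  ((Scheme.Modules.restrictFunctor j).map_isZero h).of_iso (Perfect.Coherent.homologyIso j L i)

/-- Maps from bounded complexes of finite locally free modules on an affine scheme. -/
theorem eq_zero {Y : Scheme.{u}} [IsAffine Y] (E : CochainComplex Y.Modules ℤ) (a b : ℤ) (hab : a ≤ b)
    (hEv : ∀ i, i < a ∨ b < i → IsZero (E.X i)) (hE : ∀ i, FlatMod.IsFinLocFree (E.X i))
    (L : DCoh.D Y) (hL : DCoh.IsQCohD L) (hv : ∀ i, a ≤ i → i ≤ b → IsZero (DCoh.HD L i))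
    (φ : DerivedCategory.Q.obj E ⟶ L) : φ = 0 := by
  haveI : PreservesFiniteLimits (tilde.functor Γ(Y, ⊤)) :=
    QCoh.Tilde.tildeFunctor_preservesFiniteLimits
  let k : Spec (CommRingCat.of Γ(Y, ⊤)) ⟶ Y := Y.isoSpec.inv
  haveI := faithful_RD k Y.isoSpec.hom Y.isoSpec.hom_inv_id
  apply (RD k).map_injective
  rw [Functor.map_zero, ← cancel_epi (RDQ k E).inv, comp_zero]
  exact eq_zero_spec Γ(Y, ⊤) ((rC k).obj E) a b hab
    (fun i hi => (Scheme.Modules.restrictFunctor k).map_isZero (hEv i hi))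
    (fun i => TensorMod.LocFree.isFinLocFree_restrict k (hE i)) ((RD k).obj L)
    (isQCohD_RD k hL) (fun i h1 h2 => isZero_HD_RD k (hv i h1 h2)) _

end Groth.Agent.Lib.PerfVanish.Affine
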