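import Groth.Agent.Lib.PerfVanish.Induct
import Groth.Agent.Lib.DerivedOX.RpushQCoh
import Groth.Agent.Lib.Perfect.Stupid

/-!
# Vanishing of maps from perfect objects
-/

set_option autoImplicit false
set_option linter.unusedSectionVars false
set_option linter.style.haveILetI false

universe u

open CategoryTheory Limits AlgebraicGeometry Pretriangulated

attribute [local instance] HasDerivedCategory.standard

namespace Groth.Agent.Lib.PerfVanish.Thms

open Groth.Agent.Lib.Perfect.Basic Groth.Agent.Lib.Perfect.Triangle Groth.Agent.Lib.DerivedOX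
  Groth.Agent.Lib

variable {X : Scheme.{u}}

theorem base_of_isPerfect {K : DCoh.D X} (hK : DCoh.IsPerfect K) (x : X) :
    ∃ W : X.Opens, IsAffineOpen W ∧ x ∈ W ∧ Induct.Base {K} W := by
  obtain ⟨U, j, _, y, E, hy, ⟨⟨a, b, hv⟩, hE⟩, ⟨i⟩⟩ := (isPerfect_iff K).1 hK x
  obtain ⟨W, hW, hxW, hWU⟩ := TopologicalSpace.Opens.isBasis_iff_nbhd.1 X.isBasis_affineOpens
    (show x ∈ j.opensRange from ⟨y, hy⟩)
  refine ⟨W, hW, hxW, a, max a b, le_max_left _ _, fun Y k _ _ hk K' hK' => ?_⟩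
  obtain rfl : K' = K := hK'
  have hr : Set.range k ⊆ Set.range j := fun z hz => hWU (hk hz)
  let l := IsOpenImmersion.lift j k hr
  exact ⟨(rC l).obj E, fun n hn => (Scheme.Modules.restrictFunctor l).map_isZero (hv n (by omega)),
    fun n => TensorMod.LocFree.isFinLocFree_restrict l (hE n),
    ⟨RDCongr (IsOpenImmersion.lift_fac j k hr).symm K' ≪≫ RDComp l j K' ≪≫ (RD l).mapIso i ≪≫
      RDQ l E⟩⟩

theorem base_finLocFree (W : X.Opens) :
    Induct.Base {K | ∃ F : X.Modules, FlatMod.IsFinLocFree F ∧ K = DCoh.inD X F} W := by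
  refine ⟨0, 0, le_rfl, fun Y k _ _ _ K hK => ?_⟩
  obtain ⟨F, hF, rfl⟩ := hK
  refine ⟨(CochainComplex.singleFunctor Y.Modules 0).obj ((Scheme.Modules.restrictFunctor k).obj F),
    fun i hi => HomologicalComplex.isZero_single_obj_X (ComplexShape.up ℤ) 0 _ i (by omega),
    fun i => ?_, ⟨((Scheme.Modules.restrictFunctor k).mapDerivedCategorySingleFunctor 0).app F ≪≫
      (DerivedCategory.singleFunctorIsoCompQ Y.Modules 0).app _⟩⟩
  by_cases hi : i = 0
  · subst hi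
    exact TensorMod.LocFree.of_iso (HomologicalComplex.singleObjXSelf (ComplexShape.up ℤ) 0 _).symm
      (TensorMod.LocFree.isFinLocFree_restrict k hF)
  · exact Perfect.Stupid.isFinLocFree_isZero
      (HomologicalComplex.isZero_single_obj_X (ComplexShape.up ℤ) 0 _ i hi)

/-- `H^i` of a shift. -/
theorem isZero_HD_shift {L : DCoh.D X} {n i : ℤ} (h : IsZero (DCoh.HD L (n + i))) :
    IsZero (DCoh.HD (L⟦n⟧) i) :=
  h.of_iso (((DerivedCategory.homologyFunctor X.Modules 0).shiftIso n i (n + i) rfl).app L)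

theorem exists_range [CompactSpace X] [QuasiSeparatedSpace X] {K : DCoh.D X}
    (hK : DCoh.IsPerfect K) :
    ∃ a b : ℤ, a ≤ b ∧ ∀ L : DCoh.D X, DCoh.IsQCohD L →
      (∀ i, a ≤ i → i ≤ b → IsZero (DCoh.HD L i)) → ∀ φ : K ⟶ L, φ = 0 := by
  obtain ⟨a, b, hab, h⟩ := Induct.exists_range {K} (base_of_isPerfect hK)
  exact ⟨a, b, hab, h K rfl⟩

theorem exists_uniform [CompactSpace X] [QuasiSeparatedSpace X] :
    ∃ a b : ℤ, a ≤ b ∧ ∀ F : X.Modules, FlatMod.IsFinLocFree F → ∀ L : DCoh.D X, DCoh.IsQCohD L →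
      (∀ i, a ≤ i → i ≤ b → IsZero (DCoh.HD L i)) → ∀ φ : DCoh.inD X F ⟶ L, φ = 0 := by
  obtain ⟨a, b, hab, h⟩ := Induct.exists_range
    {K | ∃ F : X.Modules, FlatMod.IsFinLocFree F ∧ K = DCoh.inD X F} fun x => by
      obtain ⟨W, hW, hxW, -⟩ := TopologicalSpace.Opens.isBasis_iff_nbhd.1 X.isBasis_affineOpens
        (show x ∈ (⊤ : X.Opens) from trivial)
      exact ⟨W, hW, hxW, base_finLocFree W⟩
  exact ⟨a, b, hab, fun F hF => h _ ⟨F, hF, rfl⟩⟩

section Shift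

variable {C : Type*} [Category C] [HasShift C ℤ] [Limits.HasZeroMorphisms C]
  [∀ n : ℤ, (shiftFunctor C n).PreservesZeroMorphisms]

/-- Maps out of a negative shift. -/
theorem eq_zero_shift {P M : C} (i : ℤ) (h : ∀ ψ : P ⟶ M⟦i⟧, ψ = 0) (φ : P⟦-i⟧ ⟶ M) : φ = 0 := by
  apply (shiftFunctor C i).map_injective
  rw [Functor.map_zero, ← cancel_epi ((shiftFunctorCompIsoId C (-i) i (neg_add_cancel i)).inv.app P),
    comp_zero]
  exact h _

end Shift

/-- Exactness at the middle of a triangle. -/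
theorem iff_of_triangle {A : Type*} [Category A] [Preadditive A] [HasZeroObject A] [HasShift A ℤ]
    [∀ n : ℤ, (shiftFunctor A n).Additive] [Pretriangulated A] (T : Triangle A) (hT : T ∈ distTriang A)
    (P : A) (h₁ : ∀ f : P ⟶ T.obj₁, f = 0) (h₂ : ∀ f : P ⟶ T.obj₁⟦(1 : ℤ)⟧, f = 0) :
    (∀ φ : P ⟶ T.obj₂, φ = 0) ↔ (∀ φ : P ⟶ T.obj₃, φ = 0) := by
  constructor
  · intro h φ
    obtain ⟨ψ, hψ⟩ := Triangle.coyoneda_exact₃ T hT φ (h₂ _)
    rw [hψ, h ψ, zero_comp]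
  · intro h φ
    obtain ⟨ψ, hψ⟩ := Triangle.coyoneda_exact₂ T hT φ (h _)
    rw [hψ, h₁ ψ, zero_comp]

end Groth.Agent.Lib.PerfVanish.Thms

namespace Groth.Agent.Lib.PerfVanish.Thms

open Groth.Agent.Lib

variable {X : Scheme.{u}} [CompactSpace X] [QuasiSeparatedSpace X]

/-- Vanishing of maps from large negative shifts only sees the truncation above. -/
theorem iff_truncGE {P : DCoh.D X} (hP : DCoh.IsPerfect P) {E : DCoh.D X} (hE : DCoh.IsQCohD E)
    (a : ℤ) :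
    (∃ N : ℤ, ∀ i : ℤ, N ≤ i → ∀ φ : P⟦-i⟧ ⟶ E, φ = 0) ↔
    (∃ N : ℤ, ∀ i : ℤ, N ≤ i → ∀ φ : P⟦-i⟧ ⟶
      ((DerivedCategory.TStructure.t : Triangulated.TStructure (DCoh.D X)).truncGE a).obj E, φ = 0) := by
  obtain ⟨c, d, hcd, h⟩ := exists_range hP
  let t : Triangulated.TStructure (DCoh.D X) := DerivedCategory.TStructure.t
  let T := (t.triangleLTGE a).obj E
  have hT : T ∈ distTriang (DCoh.D X) := t.triangleLTGE_distinguished a E
  have hq : DCoh.IsQCohD T.obj₁ := WayOut.Bounded.hasP_truncLT (P := WayOut.Scheme.qc X) hE a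
  have hle : ∀ j, a ≤ j → IsZero (DCoh.HD T.obj₁ j) := fun j hj =>
    @DerivedCategory.isZero_of_isLE _ _ _ _ _ (a - 1) j (by omega)
      (inferInstanceAs (t.IsLE ((t.truncLT a).obj E) (a - 1)))
  have hv : ∀ (i k : ℤ), a - c ≤ i + k → k = 0 ∨ k = 1 → ∀ f : P⟦-i⟧ ⟶ T.obj₁⟦k⟧, f = 0 :=
    fun i k hi _ f => eq_zero_shift i (fun ψ => h _
      (DerivedOX.CompactUnit.qcD_shift _ _ (DerivedOX.CompactUnit.qcD_shift _ _ hq))
      (fun j h1 h2 => isZero_HD_shift (isZero_HD_shift (hle _ (by omega)))) ψ) f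
  have key : ∀ i : ℤ, a - c ≤ i → ((∀ φ : P⟦-i⟧ ⟶ E, φ = 0) ↔ (∀ φ : P⟦-i⟧ ⟶ T.obj₃, φ = 0)) :=
    fun i hi => iff_of_triangle T hT _ (fun f => eq_zero_shift i (fun ψ => h _
      (DerivedOX.CompactUnit.qcD_shift _ _ hq)
      (fun j h1 h2 => isZero_HD_shift (hle _ (by omega))) ψ) f) (hv i 1 (by omega) (Or.inr rfl))
  constructor <;> rintro ⟨N, hN⟩ <;> refine ⟨max N (a - c), fun i hi => ?_⟩
  · exact (key i (by omega)).1 (hN i (by omega))
  · exact (key i (by omega)).2 (hN i (by omega))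

/-- Vanishing of maps from large positive shifts only sees the truncation below. -/
theorem iff_truncLE {P : DCoh.D X} (hP : DCoh.IsPerfect P) {E : DCoh.D X} (hE : DCoh.IsQCohD E)
    (a : ℤ) :
    (∃ N : ℤ, ∀ i : ℤ, i ≤ N → ∀ φ : P⟦-i⟧ ⟶ E, φ = 0) ↔
    (∃ N : ℤ, ∀ i : ℤ, i ≤ N → ∀ φ : P⟦-i⟧ ⟶
      ((DerivedCategory.TStructure.t : Triangulated.TStructure (DCoh.D X)).truncLE a).obj E, φ = 0) := by
  obtain ⟨c, d, hcd, h⟩ := exists_range hP
  let t : Triangulated.TStructure (DCoh.D X) := DerivedCategory.TStructure.t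
  let T := (t.triangleLTGE (a + 1)).obj E
  have hT : T.invRotate ∈ distTriang (DCoh.D X) :=
    inv_rot_of_distTriang _ (t.triangleLTGE_distinguished (a + 1) E)
  have hq : DCoh.IsQCohD T.obj₃ := WayOut.Bounded.hasP_truncGE (P := WayOut.Scheme.qc X) hE (a + 1)
  have hge : ∀ j, j ≤ a → IsZero (DCoh.HD T.obj₃ j) := fun j hj =>
    @DerivedCategory.isZero_of_isGE _ _ _ _ _ (a + 1) j (by omega)
      (inferInstanceAs (t.IsGE ((t.truncGE (a + 1)).obj E) (a + 1)))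
  have key : ∀ i : ℤ, i ≤ a - d → ((∀ φ : P⟦-i⟧ ⟶ T.obj₁, φ = 0) ↔ (∀ φ : P⟦-i⟧ ⟶ E, φ = 0)) :=
    fun i hi => iff_of_triangle T.invRotate hT _
      (fun f => eq_zero_shift i (fun ψ => h _
        (DerivedOX.CompactUnit.qcD_shift _ _ (DerivedOX.CompactUnit.qcD_shift _ _ hq))
        (fun j h1 h2 => isZero_HD_shift (isZero_HD_shift (hge _ (by omega)))) ψ) f)
      (fun f => eq_zero_shift i (fun ψ => h _
        (DerivedOX.CompactUnit.qcD_shift _ _ (DerivedOX.CompactUnit.qcD_shift _ _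
          (DerivedOX.CompactUnit.qcD_shift _ _ hq)))
        (fun j h1 h2 => isZero_HD_shift (isZero_HD_shift (isZero_HD_shift (hge _ (by omega))))) ψ) f)
  constructor <;> rintro ⟨N, hN⟩ <;> refine ⟨min N (a - d), fun i hi => ?_⟩
  · exact (key i (by omega)).2 (hN i (by omega))
  · exact (key i (by omega)).1 (hN i (by omega))

end Groth.Agent.Lib.PerfVanish.Thms
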