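import Groth.Agent.Lib.PerfVanish.Affine
import Groth.Agent.Lib.DerivedOX.CompactUnit

/-!
# Uniform vanishing of maps from locally finite locally free objects

For a class `𝒦` of objects which, on the members of an affine cover, are uniformly complexes of
finite locally free modules in a bounded range, maps to objects of `D_QCoh` without cohomology in
a suitable range vanish.
-/

set_option autoImplicit false
set_option linter.unusedSectionVars false
set_option linter.style.haveILetI false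

universe u

open CategoryTheory Limits AlgebraicGeometry Pretriangulated

attribute [local instance] HasDerivedCategory.standard

namespace Groth.Agent.Lib.PerfVanish.Induct

open Groth.Agent.Lib.Perfect.Basic Groth.Agent.Lib.Perfect.Triangle Groth.Agent.Lib.DerivedOX
  Groth.Agent.Lib

variable {X : Scheme.{u}} (𝒦 : Set (DCoh.D X))

/-- The objects of `𝒦` are uniformly bounded complexes of finite locally free modules on the affine
opens inside `W`. -/
def Base (W : X.Opens) : Prop :=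
  ∃ a b : ℤ, a ≤ b ∧ ∀ (Y : Scheme.{u}) (j : Y ⟶ X) [IsOpenImmersion j], IsAffine Y →
    j.opensRange ≤ W → ∀ K ∈ 𝒦, ∃ E : CochainComplex Y.Modules ℤ,
      (∀ i, i < a ∨ b < i → IsZero (E.X i)) ∧ (∀ i, FlatMod.IsFinLocFree (E.X i)) ∧
        Nonempty ((RD j).obj K ≅ DerivedCategory.Q.obj E)

/-- Maps from the objects of `𝒦` vanish over `W` in a uniform range. -/
def Good (W : X.Opens) : Prop :=
  ∃ a b : ℤ, a ≤ b ∧ ∀ (Y : Scheme.{u}) (j : Y ⟶ X) [IsOpenImmersion j], j.opensRange = W →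
    ∀ K ∈ 𝒦, ∀ L : DCoh.D Y, DCoh.IsQCohD L → (∀ i, a ≤ i → i ≤ b → IsZero (DCoh.HD L i)) →
      ∀ φ : (RD j).obj K ⟶ L, φ = 0

theorem Base.mono {W W' : X.Opens} (h : Base 𝒦 W) (hle : W' ≤ W) : Base 𝒦 W' := by
  obtain ⟨a, b, hab, h⟩ := h
  exact ⟨a, b, hab, fun Y j _ hY hj => h Y j hY (hj.trans hle)⟩

theorem good_of_base {W : X.Opens} (hW : IsAffineOpen W) (h : Base 𝒦 W) : Good 𝒦 W := by
  obtain ⟨a, b, hab, h⟩ := h
  refine ⟨a, b, hab, fun Y j _ hj K hK L hL hv φ => ?_⟩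
  subst hj
  haveI : IsAffine (j.opensRange : Scheme.{u}) := hW
  haveI : IsAffine Y := IsAffine.of_isIso j.isoOpensRange.hom
  obtain ⟨E, hEv, hE, ⟨e⟩⟩ := h Y j inferInstance le_rfl K hK
  rw [← cancel_epi e.inv, comp_zero]
  exact Affine.eq_zero E a b hab hEv hE L hL hv _

theorem good_bot : Good 𝒦 ⊥ := by
  refine ⟨0, 0, le_rfl, fun Y j _ hj K _ L _ _ φ => ?_⟩
  refine (OpenSupport.isZero_of_restrictD (fun i : PEmpty.{1} => i.elim) ?_ L
    fun i => i.elim).eq_of_tgt _ _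
  refine eq_top_iff.2 fun y _ => ?_
  exact ((show j y ∈ (⊥ : X.Opens) from hj ▸ ⟨y, rfl⟩) : False).elim

/-- Mayer–Vietoris. -/
theorem good_sup {U V : X.Opens} (hU : Good 𝒦 U) (hV : Good 𝒦 V) (hI : Good 𝒦 (U ⊓ V)) :
    Good 𝒦 (U ⊔ V) := by
  obtain ⟨a₁, b₁, hab₁, hU⟩ := hU
  obtain ⟨a₂, b₂, hab₂, hV⟩ := hV
  obtain ⟨a₃, b₃, hab₃, hI⟩ := hI
  refine ⟨min (min a₁ a₂) (a₃ - 1), max (max b₁ b₂) (b₃ - 1), by omega,
    fun Y j _ hj K hK L hL hv φ => ?_⟩
  have hr : ∀ {W : X.Opens}, W ≤ U ⊔ V → ((j ⁻¹ᵁ W).ι ≫ j).opensRange = W := fun {W} hW => by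
    rw [Scheme.Hom.opensRange_comp, Scheme.Opens.opensRange_ι, Scheme.Hom.image_preimage_eq_opensRange_inf,
      hj, inf_eq_right.2 hW]
  let U' := j ⁻¹ᵁ U
  let V' := j ⁻¹ᵁ V
  have hUV : U' ⊔ V' = ⊤ := by
    change j ⁻¹ᵁ (U ⊔ V) = ⊤
    rw [← hj, Scheme.Hom.preimage_opensRange]
  have hzero : ∀ (W : X.Opens) (a b : ℤ), (∀ (Y : Scheme.{u}) (j : Y ⟶ X) [IsOpenImmersion j],
      j.opensRange = W → ∀ K ∈ 𝒦, ∀ L : DCoh.D Y, DCoh.IsQCohD L →
        (∀ i, a ≤ i → i ≤ b → IsZero (DCoh.HD L i)) → ∀ φ : (RD j).obj K ⟶ L, φ = 0) →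
      W ≤ U ⊔ V → ∀ M : DCoh.D Y, DCoh.IsQCohD M → (∀ i, a ≤ i → i ≤ b → IsZero (DCoh.HD M i)) →
      ∀ ψ : (CxOX.extZeroD (j ⁻¹ᵁ W).ι).obj ((DCoh.restrictD (j ⁻¹ᵁ W).ι).obj ((RD j).obj K)) ⟶ M,
        ψ = 0 := fun W a b hW hle M hM hMv ψ => by
    let adj : CxOX.extZeroD (j ⁻¹ᵁ W).ι ⊣ DCoh.restrictD (j ⁻¹ᵁ W).ι :=
      RestrictRpush.derivedAdjExact (CxOX.extZeroAdj _)
    apply (adj.homEquiv _ _).injective
    have h0 : ∀ χ : (RD (j ⁻¹ᵁ W).ι).obj ((RD j).obj K) ⟶ (RD (j ⁻¹ᵁ W).ι).obj M, χ = 0 := fun χ => by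
      rw [← cancel_epi (RDComp (j ⁻¹ᵁ W).ι j K).hom, comp_zero]
      exact hW _ _ (hr hle) K hK _ (Affine.isQCohD_RD _ hM)
        (fun i h1 h2 => Affine.isZero_HD_RD _ (hMv i h1 h2)) _
    exact (h0 _).trans (h0 _).symm
  obtain ⟨α, β, γ, hT⟩ := MVExtZero.exists_mv_triangle U' V' hUV ((RD j).obj K)
  have hβ : β ≫ φ = 0 := by
    apply biprod.hom_ext'
    · exact (hzero U a₁ b₁ hU le_sup_left L hL (fun i h1 h2 => hv i (by omega) (by omega)) _).trans
        comp_zero.symm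
    · exact (hzero V a₂ b₂ hV le_sup_right L hL (fun i h1 h2 => hv i (by omega) (by omega)) _).trans
        comp_zero.symm
  obtain ⟨χ, hχ⟩ := Triangle.yoneda_exact₃ _ hT φ hβ
  have hχ0 : χ = 0 := by
    apply (shiftFunctor (DCoh.D Y) (-1 : ℤ)).map_injective
    rw [Functor.map_zero, ← cancel_epi ((shiftFunctorCompIsoId (DCoh.D Y) (1 : ℤ) (-1) (by omega)).inv.app _),
      comp_zero]
    exact hzero (U ⊓ V) a₃ b₃ hI (inf_le_left.trans le_sup_left) _ (CompactUnit.qcD_shift L _ hL)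
      (fun i h1 h2 => (hv (i - 1) (by omega) (by omega)).of_iso
        (((DerivedCategory.homologyFunctor Y.Modules 0).shiftIso (-1) i (i - 1) (by omega)).app L)) _
  rw [hχ, hχ0]
  exact comp_zero

theorem good_of_basic {W : X.Opens} (hW : IsAffineOpen W) (h : Base 𝒦 W) (s : Finset Γ(X, W)) :
    Good 𝒦 (s.sup fun f => X.basicOpen f) := by
  classical
  suffices hs : ∀ (n : ℕ) (s : Finset Γ(X, W)), s.card ≤ n → Good 𝒦 (s.sup fun f => X.basicOpen f) from
    hs s.card s le_rfl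
  intro n
  induction n with
  | zero =>
    intro s hs
    rw [Finset.card_eq_zero.1 (Nat.le_zero.1 hs)]
    exact good_bot 𝒦
  | succ n ih =>
    intro s hs
    rcases s.eq_empty_or_nonempty with rfl | ⟨g, hg⟩
    · exact good_bot 𝒦
    have hc : (s.erase g).card ≤ n := by
      rw [Finset.card_erase_of_mem hg]; omega
    rw [← Finset.insert_erase hg, Finset.sup_insert, sup_comm]
    refine good_sup 𝒦 (ih _ hc)
      (good_of_base 𝒦 (hW.basicOpen g) (h.mono 𝒦 (X.basicOpen_le g))) ?_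
    have := ih ((s.erase g).image (· * g)) (Finset.card_image_le.trans hc)
    rw [Finset.sup_image] at this
    rw [Finset.sup_inf_distrib_right]
    simpa [Function.comp_def, Scheme.basicOpen_mul] using this

theorem good_of_le {W V : X.Opens} (hW : IsAffineOpen W) (h : Base 𝒦 W) (hV : IsCompact (V : Set X))
    (hVW : V ≤ W) : Good 𝒦 V := by
  classical
  obtain ⟨s, hs⟩ := hV.elim_finite_subcover
    (fun f : { f : Γ(X, W) // X.basicOpen f ≤ V } => (X.basicOpen f.1 : Set X))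
    (fun f => (X.basicOpen f.1).isOpen) fun x hx => by
      obtain ⟨f, hf, hxf⟩ := hW.exists_basicOpen_le ⟨x, hx⟩ (hVW hx)
      exact Set.mem_iUnion.2 ⟨⟨f, hf⟩, hxf⟩
  have e : (s.image Subtype.val).sup (fun f => X.basicOpen f) = V := by
    rw [Finset.sup_image]
    refine le_antisymm (Finset.sup_le fun f _ => f.2) fun x hx => ?_
    obtain ⟨f, hf, hxf⟩ := Set.mem_iUnion₂.1 (hs hx)
    exact Finset.le_sup (f := (fun f => X.basicOpen f) ∘ Subtype.val) hf hxf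
  exact e ▸ good_of_basic 𝒦 hW h _

theorem good_top [CompactSpace X] [QuasiSeparatedSpace X]
    (h : ∀ x : X, ∃ W : X.Opens, IsAffineOpen W ∧ x ∈ W ∧ Base 𝒦 W) : Good 𝒦 ⊤ := by
  classical
  choose W hWa hxW hWb using h
  obtain ⟨s, hs⟩ := isCompact_univ.elim_finite_subcover (fun x => (W x : Set X))
    (fun x => (W x).isOpen) fun x _ => Set.mem_iUnion.2 ⟨x, hxW x⟩
  have key : ∀ t : Finset X, IsCompact ((t.sup W : X.Opens) : Set X) ∧ Good 𝒦 (t.sup W) := fun t => by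
    induction t using Finset.induction_on with
    | empty => exact ⟨by simp, good_bot 𝒦⟩
    | insert x t _ ih =>
      have hc : IsCompact ((t.sup W ⊓ W x : X.Opens) : Set X) :=
        QuasiSeparatedSpace.inter_isCompact _ _ (t.sup W).isOpen ih.1 (W x).isOpen (hWa x).isCompact
      rw [Finset.sup_insert, sup_comm]
      refine ⟨?_, good_sup 𝒦 ih.2 (good_of_base 𝒦 (hWa x) (hWb x))
        (good_of_le 𝒦 (hWa x) (hWb x) hc inf_le_right)⟩
      rw [TopologicalSpace.Opens.coe_sup]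
      exact ih.1.union (hWa x).isCompact
  have e : s.sup W = ⊤ := by
    refine eq_top_iff.2 fun x _ => ?_
    obtain ⟨y, hy, hxy⟩ := Set.mem_iUnion₂.1 (hs (Set.mem_univ x))
    exact Finset.le_sup (f := W) hy hxy
  exact e ▸ (key s).2

/-- The range for maps on `X` itself. -/
theorem exists_range [CompactSpace X] [QuasiSeparatedSpace X]
    (h : ∀ x : X, ∃ W : X.Opens, IsAffineOpen W ∧ x ∈ W ∧ Base 𝒦 W) :
    ∃ a b : ℤ, a ≤ b ∧ ∀ K ∈ 𝒦, ∀ L : DCoh.D X, DCoh.IsQCohD L →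
      (∀ i, a ≤ i → i ≤ b → IsZero (DCoh.HD L i)) → ∀ φ : K ⟶ L, φ = 0 := by
  obtain ⟨a, b, hab, hg⟩ := good_top 𝒦 h
  refine ⟨a, b, hab, fun K hK L hL hv φ => ?_⟩
  let e := DerivedCategory.Q.objObjPreimageIso K
  let i : (RD (𝟙 X)).obj K ≅ K :=
    (RD (𝟙 X)).mapIso e.symm ≪≫ RDQ (𝟙 X) _ ≪≫ DerivedCategory.Q.mapIso ((rCId X).app _) ≪≫ e
  rw [← cancel_epi i.hom, comp_zero]
  exact hg X (𝟙 X) (Scheme.Hom.opensRange_of_isIso (𝟙 X)) K hK L hL hv _

end Groth.Agent.Lib.PerfVanish.Induct
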